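import Cfsg.Agent.H936.AutPow
import Cfsg.Agent.Lib.MinNormal

/-!
# S5882 from S5881: the non almost simple case (helper98)

`G` perfect, `H` a core-free maximal subgroup, `N` a minimal normal subgroup.  If `N` has a non-trivial centralizer then
`H ⊓ N = 1`; if `N = T ^ k` with `k ≥ 2` then `⁅H ⊓ N, H ⊓ N⁆ ≤ H''`.  In both cases `H'` is perfect.
-/

set_option autoImplicit false

namespace Cfsg.Agent.DS.ONS

open Cfsg.Agent.H936
open scoped commutatorElement

/-- a subdirect product of non-abelian simple groups is perfect -/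
theorem subdirect_perfect {ι T : Type*} [Finite ι] [Group T] [IsSimpleGroup T] (hT : ¬ IsMulCommutative T)
    (R : Subgroup (ι → T)) (hR : ∀ i t, ∃ r ∈ R, r i = t) : R ≤ ⁅R, R⁆ := by
  classical
  have hTT : ⁅(⊤ : Subgroup T), (⊤ : Subgroup T)⁆ = ⊤ := by
    have h := ps_zero_simple hT
    unfold PS at h
    rwa [derivedSeries_succ, derivedSeries_zero] at h
  have key : ∀ s : Finset ι, ∀ r ∈ R, ∃ c ∈ ⁅R, R⁆, ∃ a ∈ R, (∀ i ∈ s, a i = 1) ∧ r = c * a := by
    intro s
    induction s using Finset.induction_on with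
    | empty => exact fun r hr => ⟨1, one_mem _, r, hr, fun i hi => absurd hi (Finset.notMem_empty i), (one_mul r).symm⟩
    | insert j s hj ih =>
      intro r hr
      obtain ⟨c, hc, a, ha, has, rfl⟩ := ih r hr
      let A : Subgroup (ι → T) :=
        { carrier := {x | x ∈ R ∧ ∀ i ∈ s, x i = 1}
          one_mem' := ⟨one_mem _, fun _ _ => rfl⟩
          mul_mem' := fun {x y} hx hy => ⟨mul_mem hx.1 hy.1, fun i hi => by
            rw [Pi.mul_apply, hx.2 i hi, hy.2 i hi, one_mul]⟩
          inv_mem' := fun {x} hx => ⟨inv_mem hx.1, fun i hi => by rw [Pi.inv_apply, hx.2 i hi, inv_one]⟩ }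
      have hAR : A ≤ R := fun x hx => hx.1
      let π : (ι → T) →* T := Pi.evalMonoidHom (fun _ => T) j
      have hn : (A.map π).Normal := by
        constructor
        rintro _ ⟨x, hx, rfl⟩ t
        obtain ⟨y, hy, rfl⟩ := hR j t
        refine ⟨y * x * y⁻¹, ⟨mul_mem (mul_mem hy hx.1) (inv_mem hy), fun i hi => ?_⟩, rfl⟩
        rw [Pi.mul_apply, Pi.mul_apply, hx.2 i hi, mul_one, Pi.inv_apply, mul_inv_cancel]
      rcases hn.eq_bot_or_eq_top with h | h
      · refine ⟨c, hc, a, ha, fun i hi => ?_, rfl⟩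
        rcases Finset.mem_insert.1 hi with rfl | hi
        · have h1 : π a ∈ A.map π := ⟨a, ⟨ha, has⟩, rfl⟩
          rw [h] at h1
          exact h1
        · exact has i hi
      · have h1 : π a ∈ (⁅A, A⁆).map π := by
          rw [Subgroup.map_commutator, h, hTT]
          trivial
        obtain ⟨d, hd, hda⟩ := h1
        have hdA : d ∈ A := (Subgroup.commutator_le.2 fun x hx y hy =>
          mul_mem (mul_mem (mul_mem hx hy) (inv_mem hx)) (inv_mem hy) : ⁅A, A⁆ ≤ A) hd
        refine ⟨c * d, mul_mem hc (Subgroup.commutator_mono hAR hAR hd), d⁻¹ * a,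
          mul_mem (inv_mem hdA.1) ha, fun i hi => ?_, by group⟩
        rcases Finset.mem_insert.1 hi with rfl | hi
        · have h2 : d i = a i := hda
          rw [Pi.mul_apply, Pi.inv_apply, h2, inv_mul_cancel]
        · rw [Pi.mul_apply, Pi.inv_apply, hdA.2 i hi, has i hi, inv_one, one_mul]
  intro r hr
  have := Fintype.ofFinite ι
  obtain ⟨c, hc, a, -, has, rfl⟩ := key Finset.univ r hr
  have h1 : a = 1 := funext fun i => has i (Finset.mem_univ i)
  rw [h1, mul_one]
  exact hc

variable {G : Type*} [Group G]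

theorem sup_derived (hperf : commutator G = ⊤) {H N : Subgroup G} [N.Normal] (hs : N ⊔ H = ⊤) (j : ℕ) :
    N ⊔ (derivedSeries H j).map H.subtype = ⊤ := by
  induction j with
  | zero => rw [derivedSeries_zero, ← MonoidHom.range_eq_map, Subgroup.range_subtype, hs]
  | succ j ih =>
    rw [eq_top_iff, ← hperf, commutator_def, ← ih, derivedSeries_succ, Subgroup.map_commutator]
    exact commutator_sup_normal _ _

/-- the last step: `⁅H ⊓ N, H ⊓ N⁆ ≤ H''` gives `H' = H''` -/
theorem ps_one (hperf : commutator G = ⊤) {H N : Subgroup G} [N.Normal] (hs : N ⊔ H = ⊤)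
    (hR : ⁅N.subgroupOf H, N.subgroupOf H⁆ ≤ derivedSeries H 2) : PS 1 H := by
  have h1 : derivedSeries H 2 ⊔ N.subgroupOf H = ⊤ := by
    rw [eq_top_iff]
    intro h _
    have h2 : (h : G) ∈ N ⊔ (derivedSeries H 2).map H.subtype := by
      rw [sup_derived hperf hs 2]
      trivial
    obtain ⟨n, hn, _, ⟨k, hk, rfl⟩, hnk⟩ := Subgroup.mem_sup_of_normal_left.1 h2
    have h3 : h = (h * k⁻¹) * k := by group
    rw [h3]
    refine mul_mem (Subgroup.mem_sup_right ?_) (Subgroup.mem_sup_left hk)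
    rw [Subgroup.mem_subgroupOf, Subgroup.coe_mul, ← hnk]
    simpa using hn
  unfold PS
  refine le_antisymm (derivedSeries_antitone H (Nat.le_succ _)) ?_
  rw [derivedSeries_one, commutator_def, ← h1]
  exact (commutator_sup_normal _ _).trans (sup_le le_rfl hR)

theorem sup_top_of_core {H N : Subgroup G} [hN : N.Normal] (hH : IsCoatom H) (hcore : H.normalCore = ⊥) (h0 : N ≠ ⊥) :
    N ⊔ H = ⊤ := by
  by_contra h
  have h1 : N ⊔ H = H := (hH.le_iff.1 le_sup_right).resolve_left h
  apply h0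
  rw [eq_bot_iff, ← hcore]
  exact Subgroup.normal_le_normalCore.2 (le_sup_left.trans h1.le)

/-- a normal subgroup with non-trivial centralizer meets `H` trivially -/
theorem inf_bot_of_cent {H N : Subgroup G} [hN : N.Normal] (hH : IsCoatom H) (hcore : H.normalCore = ⊥)
    (hC : Subgroup.centralizer (N : Set G) ≠ ⊥) : N.subgroupOf H = ⊥ := by
  have hs := sup_top_of_core (N := Subgroup.centralizer (N : Set G)) hH hcore hC
  have hn : (N ⊓ H).Normal := by
    constructor
    intro x hx g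
    have h2 : g ∈ Subgroup.centralizer (N : Set G) ⊔ H := by
      rw [hs]
      trivial
    obtain ⟨c, hc, h, hh, rfl⟩ := Subgroup.mem_sup_of_normal_left.1 h2
    have h3 : h * x * h⁻¹ ∈ N := hN.conj_mem x hx.1 h
    have h4 : c * h * x * (c * h)⁻¹ = h * x * h⁻¹ := by
      have h5 := Subgroup.mem_centralizer_iff.1 hc _ h3
      calc c * h * x * (c * h)⁻¹ = (c * (h * x * h⁻¹)) * c⁻¹ := by group
        _ = h * x * h⁻¹ := by rw [← h5]; group
    rw [h4]
    exact ⟨h3, H.mul_mem (H.mul_mem hh hx.2) (H.inv_mem hh)⟩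
  have h6 : N ⊓ H ≤ H.normalCore := Subgroup.normal_le_normalCore.2 inf_le_right
  rw [hcore] at h6
  rw [eq_bot_iff]
  intro x hx
  have h7 : (x : G) ∈ N ⊓ H := ⟨hx, x.2⟩
  exact Subtype.ext (h6 h7)

theorem exists_conj {A : Type*} [Group A] (f : A →* G) (hf : Function.Injective f) [hN : f.range.Normal] (g : G) :
    ∃ β : MulAut A, ∀ x, g * f x * g⁻¹ = f (β x) := by
  let e : A ≃* f.range := MonoidHom.ofInjective hf
  refine ⟨MulAut.congr e.symm (MulAut.conjNormal g), fun x => ?_⟩
  have h1 : ∀ y : f.range, f (e.symm y) = y := fun y => by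
    have h2 : ((e (e.symm y) : f.range) : G) = f (e.symm y) := rfl
    rw [← h2, e.apply_symm_apply]
  change _ = f (e.symm (MulAut.conjNormal g (e x)))
  rw [h1]
  rfl

/-- **the case `N = T ^ k`, `k ≥ 2`** -/
theorem comm_le (hperf : commutator G = ⊤) {H : Subgroup G} (hH : IsCoatom H) (hcore : H.normalCore = ⊥)
    {ι T : Type*} [Finite ι] [Nontrivial ι] [Group T] [IsSimpleGroup T] (hT : ¬ IsMulCommutative T)
    (f : (ι → T) →* G) (hf : Function.Injective f) [hN : f.range.Normal]
    (hmin : ∀ M : Subgroup G, M.Normal → M ≤ f.range → M = ⊥ ∨ M = f.range) :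
    ⁅f.range.subgroupOf H, f.range.subgroupOf H⁆ ≤ derivedSeries H 2 := by
  classical
  obtain ⟨t₀, ht₀⟩ := AutPow.exists_ne_one T
  have h0 : f.range ≠ ⊥ := by
    intro h
    obtain ⟨i⟩ : Nonempty ι := inferInstance
    have h1 : f (fun _ => t₀) ∈ f.range := ⟨_, rfl⟩
    rw [h, Subgroup.mem_bot, ← f.map_one] at h1
    exact ht₀ (congrFun (hf h1) i)
  have hs := sup_top_of_core (N := f.range) hH hcore h0
  set K : Subgroup G := (derivedSeries H 2).map H.subtype with hK
  set R : Subgroup (ι → T) := H.comap f with hR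
  -- reduction to a statement in `ι → T`
  suffices hmain : ⁅R, R⁆ ≤ K.comap f by
    have h1 : (f.range.subgroupOf H).map H.subtype ≤ R.map f := by
      rintro _ ⟨x, ⟨y, hy⟩, rfl⟩
      refine ⟨y, ?_, hy⟩
      change f y ∈ H
      rw [hy]
      exact x.2
    rw [← Subgroup.map_le_map_iff_of_injective H.subtype_injective, Subgroup.map_commutator]
    refine (Subgroup.commutator_mono h1 h1).trans ?_
    rw [← Subgroup.map_commutator, Subgroup.map_le_iff_le_comap]
    exact hmain
  have hRH : R.map f ≤ H := Subgroup.map_comap_le f H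
  by_cases hsub : ∀ i t, ∃ r ∈ R, r i = t
  · have h1 := subdirect_perfect hT R hsub
    refine (Subgroup.commutator_mono h1 h1).trans ?_
    rw [← Subgroup.map_le_iff_le_comap, Subgroup.map_commutator, Subgroup.map_commutator, hK, derivedSeries_succ,
      derivedSeries_succ, derivedSeries_zero, Subgroup.map_commutator, Subgroup.map_commutator,
      ← MonoidHom.range_eq_map, Subgroup.range_subtype]
    exact Subgroup.commutator_mono (Subgroup.commutator_mono hRH hRH) (Subgroup.commutator_mono hRH hRH)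
  -- the product case
  set P : Subgroup (ι → T) := Subgroup.pi Set.univ fun i => R.map (Pi.evalMonoidHom (fun _ => T) i) with hP
  have hRP : R ≤ P := fun r hr i _ => ⟨r, hr, rfl⟩
  have hRinv : ∀ h ∈ H, ∀ β : MulAut (ι → T), (∀ x, h * f x * h⁻¹ = f (β x)) → ∀ r ∈ R, β r ∈ R := by
    intro h hh β hβ r hr
    change f (β r) ∈ H
    rw [← hβ]
    exact mul_mem (mul_mem hh hr) (inv_mem hh)
  have hPinv : ∀ h ∈ H, ∀ x ∈ P.map f, h * x * h⁻¹ ∈ P.map f := by
    rintro h hh _ ⟨x, hx, rfl⟩
    obtain ⟨β, hβ⟩ := exists_conj f hf h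
    obtain ⟨σ, φ, hσ⟩ := AutPow.exists_form hT β
    refine ⟨β x, fun j _ => ?_, (hβ x).symm⟩
    obtain ⟨i, rfl⟩ := σ.surjective j
    obtain ⟨r, hr, hri⟩ := hx i (Set.mem_univ i)
    refine ⟨β r, hRinv h hh β hβ r hr, ?_⟩
    change β r (σ i) = β x (σ i)
    rw [hσ, hσ]
    exact congrArg _ hri
  have hPH : P.map f ≤ H := by
    let W : Subgroup G :=
      { carrier := {g | ∃ h ∈ H, ∃ p ∈ P.map f, g = p * h}
        one_mem' := ⟨1, one_mem _, 1, one_mem _, (one_mul 1).symm⟩
        mul_mem' := by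
          rintro _ _ ⟨h, hh, p, hp, rfl⟩ ⟨h', hh', p', hp', rfl⟩
          exact ⟨h * h', mul_mem hh hh', p * (h * p' * h⁻¹), mul_mem hp (hPinv h hh p' hp'), by group⟩
        inv_mem' := by
          rintro _ ⟨h, hh, p, hp, rfl⟩
          exact ⟨h⁻¹, inv_mem hh, h⁻¹ * p⁻¹ * h⁻¹⁻¹, hPinv _ (inv_mem hh) _ (inv_mem hp), by group⟩ }
    have hHW : H ≤ W := fun h hh => ⟨h, hh, 1, one_mem _, (one_mul h).symm⟩
    rcases hH.le_iff.1 hHW with h | h
    · exfalso
      apply hsub
      intro i t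
      have h1 : f (Pi.mulSingle i t) ∈ W := by
        rw [h]
        trivial
      obtain ⟨h', hh', _, ⟨p, hp, rfl⟩, h2⟩ := h1
      have h3 : p⁻¹ * Pi.mulSingle i t ∈ R := by
        change f _ ∈ H
        rw [map_mul, map_inv, h2]
        simpa using hh'
      have h4 : Pi.mulSingle i t ∈ P := by
        have h5 := mul_mem hp (hRP h3)
        rwa [mul_inv_cancel_left] at h5
      obtain ⟨r, hr, hri⟩ := h4 i (Set.mem_univ i)
      refine ⟨r, hr, ?_⟩
      have h6 : r i = (Pi.mulSingle i t : ι → T) i := hri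
      rw [h6, Pi.mulSingle_eq_same]
    · intro p hp
      rw [← h]
      exact ⟨1, one_mem _, p, hp, (mul_one p).symm⟩
  have hPR : P ≤ R := Subgroup.map_le_iff_le_comap.1 hPH
  have hsingle : ∀ i, ∀ r ∈ R, Pi.mulSingle i (r i) ∈ R := by
    intro i r hr
    refine hPR fun j _ => ?_
    by_cases hji : j = i
    · subst hji
      refine ⟨r, hr, ?_⟩
      change r j = _
      rw [Pi.mulSingle_eq_same]
    · rw [Pi.mulSingle_eq_of_ne hji]
      exact Subgroup.one_mem _
  -- every factor is moved by `K`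
  have hmove : ∀ i, ∃ k ∈ K, ∃ β : MulAut (ι → T), (∀ x, k * f x * k⁻¹ = f (β x)) ∧
      ∀ t, β (Pi.mulSingle i t) i = 1 := by
    intro i
    by_contra hcon
    let M₀ : Subgroup (ι → T) :=
      { carrier := {x | ∀ j, j ≠ i → x j = 1}
        one_mem' := fun _ _ => rfl
        mul_mem' := fun {x y} hx hy j hj => by rw [Pi.mul_apply, hx j hj, hy j hj, one_mul]
        inv_mem' := fun {x} hx j hj => by rw [Pi.inv_apply, hx j hj, inv_one] }
    have hKinv : ∀ k ∈ K, ∀ x ∈ M₀.map f, k * x * k⁻¹ ∈ M₀.map f := by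
      rintro k hk _ ⟨x, hx, rfl⟩
      obtain ⟨β, hβ⟩ := exists_conj f hf k
      obtain ⟨σ, φ, hσ⟩ := AutPow.exists_form hT β
      have hσi : σ i = i := by
        by_contra hne
        apply hcon
        refine ⟨k, hk, β, hβ, fun t => ?_⟩
        obtain ⟨j, hj⟩ := σ.surjective i
        have hji : j ≠ i := by
          rintro rfl
          exact hne hj
        have h1 := hσ (Pi.mulSingle i t) j
        rw [hj, Pi.mulSingle_eq_of_ne hji, map_one] at h1
        exact h1
      refine ⟨β x, fun j hj => ?_, (hβ x).symm⟩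
      obtain ⟨j', rfl⟩ := σ.surjective j
      have hj' : j' ≠ i := by
        rintro rfl
        exact hj hσi
      rw [hσ, hx j' hj', map_one]
    have hMn : (M₀.map f).Normal := by
      constructor
      intro x hx g
      have h2 : g ∈ f.range ⊔ K := by
        rw [hK, sup_derived hperf hs 2]
        trivial
      obtain ⟨_, ⟨n, rfl⟩, k, hk, rfl⟩ := Subgroup.mem_sup_of_normal_left.1 h2
      obtain ⟨y, hy, hyx⟩ := hKinv k hk x hx
      refine ⟨n * y * n⁻¹, fun j hj => ?_, ?_⟩
      · rw [Pi.mul_apply, Pi.mul_apply, hy j hj, mul_one, Pi.inv_apply, mul_inv_cancel]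
      · rw [map_mul, map_mul, hyx, map_inv]
        group
    rcases hmin _ hMn (Subgroup.map_le_range f M₀) with h | h
    · have h1 : f (Pi.mulSingle i t₀) ∈ M₀.map f := ⟨_, fun j hj => Pi.mulSingle_eq_of_ne hj _, rfl⟩
      rw [h, Subgroup.mem_bot, ← f.map_one] at h1
      have h2 := congrFun (hf h1) i
      rw [Pi.mulSingle_eq_same] at h2
      exact ht₀ h2
    · obtain ⟨j, hj⟩ := exists_ne i
      have h1 : f (fun _ => t₀) ∈ M₀.map f := by
        rw [h]
        exact ⟨_, rfl⟩
      obtain ⟨y, hy, hyt⟩ := h1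
      have h2 := hy j hj
      rw [hf hyt] at h2
      exact ht₀ h2
  have hKH : K ≤ H := Subgroup.map_subtype_le _
  have hKn : ∀ h ∈ H, ∀ k ∈ K, h * k * h⁻¹ ∈ K := by
    rintro h hh _ ⟨k, hk, rfl⟩
    exact ⟨⟨h, hh⟩ * k * ⟨h, hh⟩⁻¹, (derivedSeries_normal H 2).conj_mem k hk _, rfl⟩
  -- the commutators of the factors
  have hcomm : ∀ i, ∀ r ∈ R, ∀ s ∈ R, Pi.mulSingle i ⁅r i, s i⁆ ∈ K.comap f := by
    intro i r hr s hs'
    obtain ⟨k, hk, β, hβ, hβi⟩ := hmove i
    set a : ι → T := Pi.mulSingle i (r i) with ha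
    set b : ι → T := Pi.mulSingle i (s i) with hb
    have haH : f a ∈ H := hsingle i r hr
    have hbH : f b ∈ H := hsingle i s hs'
    have h1 : f (a * β a⁻¹) ∈ K := by
      rw [map_mul, ← hβ, map_inv]
      have h2 : f a * (k * (f a)⁻¹ * k⁻¹) = (f a * k * (f a)⁻¹) * k⁻¹ := by group
      rw [h2]
      exact mul_mem (hKn _ haH _ hk) (inv_mem hk)
    have h3 : f ⁅a * β a⁻¹, b⁆ ∈ K := by
      rw [map_commutatorElement, commutatorElement_def]
      have h4 : f (a * β a⁻¹) * f b * (f (a * β a⁻¹))⁻¹ * (f b)⁻¹ =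
          f (a * β a⁻¹) * (f b * (f (a * β a⁻¹))⁻¹ * (f b)⁻¹) := by group
      rw [h4]
      exact mul_mem h1 (hKn _ hbH _ (inv_mem h1))
    have h5 : ⁅a * β a⁻¹, b⁆ = Pi.mulSingle i ⁅r i, s i⁆ := by
      funext j
      by_cases hji : j = i
      · subst hji
        have h6 : β a⁻¹ j = 1 := by
          rw [map_inv, Pi.inv_apply, ha, hβi, inv_one]
        have h7 : a j = r j := by rw [ha, Pi.mulSingle_eq_same]
        have h8 : b j = s j := by rw [hb, Pi.mulSingle_eq_same]
        simp only [commutatorElement_def, Pi.mul_apply, Pi.inv_apply, h6, h7, h8, Pi.mulSingle_eq_same, mul_one]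
      · simp only [commutatorElement_def, Pi.mul_apply, Pi.inv_apply, hb, Pi.mulSingle_eq_of_ne hji, mul_one,
          mul_inv_cancel, inv_one]
    change f _ ∈ K
    rw [← h5]
    exact h3
  rw [Subgroup.commutator_le]
  intro r hr s hs'
  refine Subgroup.pi_mem_of_mulSingle_mem _ fun i => ?_
  exact hcomm i r hr s hs'

end Cfsg.Agent.DS.ONS
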