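import Cfsg.Agent.DS.Defs
import Cfsg.Agent.DS.ONS.Core

/-!
# `BoxONS`, and the passage from `Type` to all universes (helper98)
-/

set_option autoImplicit false

namespace Cfsg.Agent.DS.ONS

open Cfsg Cfsg.Agent.H936

/-- **[G5]** -/
theorem boxONS : BoxONS := by
  intro _ h81 G _ _ hperf H hH hcore
  have htop : (⊤ : Subgroup G) ≠ ⊥ := fun h => hH.1 (by rw [eq_top_iff, h]; exact bot_le)
  obtain ⟨N, -, hN0, hNn, hmin⟩ := Cfsg.Agent.Lib.MinNormal.exists_minimal_normal_le (⊤ : Subgroup G) htop
  have hN : N.Normal := Subgroup.normalizer_eq_top_iff.1 (top_le_iff.1 hNn)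
  have hmin' : ∀ M : Subgroup G, M.Normal → M ≤ N → M = ⊥ ∨ M = N := fun M hM hMN =>
    hmin M hMN (top_le_iff.2 (Subgroup.normalizer_eq_top_iff.2 hM))
  have hs := sup_top_of_core (N := N) hH hcore hN0
  by_cases hC : Subgroup.centralizer (N : Set G) = ⊥
  swap
  · left
    refine (ps_one hperf hs ?_).mono (by norm_num)
    rw [inf_bot_of_cent hH hcore hC, Subgroup.commutator_bot_left]
    exact bot_le
  have hna : ¬ IsMulCommutative N := by
    intro h
    apply hN0
    rw [eq_bot_iff, ← hC]
    intro x hx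
    rw [Subgroup.mem_centralizer_iff]
    intro y hy
    exact congrArg Subtype.val (h.is_comm.comm (⟨y, hy⟩ : N) ⟨x, hx⟩)
  obtain ⟨T, m, -, hT, hm, ⟨e⟩⟩ := Cfsg.Agent.Lib.MinNormal.exists_mulEquiv_pi N hN0 hmin'
  have hTa : ¬ IsMulCommutative T := by
    intro h
    apply hna
    refine ⟨⟨fun x y => e.injective ?_⟩⟩
    rw [map_mul, map_mul]
    funext i
    exact h.is_comm.comm _ _
  by_cases h1 : m = 1
  · subst h1
    have hNs : IsSimpleGroup N := (e.trans (MulEquiv.funUnique (Fin 1) T)).isSimpleGroup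
    exact h81 G N hN hNs hna hC H hH
  · left
    have hnt : Nontrivial (Fin m) := Fin.nontrivial_iff_two_le.2 (by omega)
    let f : (Fin m → T) →* G := N.subtype.comp e.symm.toMonoidHom
    have hf : Function.Injective f := N.subtype_injective.comp e.symm.injective
    have hr : f.range = N := by
      ext x
      constructor
      · rintro ⟨y, rfl⟩
        exact (e.symm y).2
      · intro hx
        exact ⟨e ⟨x, hx⟩, by simp [f]⟩
    have hfn : f.range.Normal := hr ▸ hN
    have h2 := comm_le hperf hH hcore hTa f hf (by rw [hr]; exact hmin')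
    rw [hr] at h2
    exact (ps_one hperf hs h2).mono (by norm_num)

section transfer

variable {G G' : Type*} [Group G] [Group G']

theorem concl_of (e : G ≃* G') (H : Subgroup G)
    (h : PS 9 (H.map e.toMonoidHom) ∨ (PS 10 (H.map e.toMonoidHom) ∧ Group.IsSolvable (H.map e.toMonoidHom) ∧ IsFi23 G')) :
    derivedSeries H 11 = derivedSeries H 10 ∧
      (derivedSeries H 10 = derivedSeries H 9 ∨ (Group.IsSolvable H ∧ Cfsg.IsFi23 G)) := by
  let e' : H ≃* H.map e.toMonoidHom := H.equivMapOfInjective e.toMonoidHom e.injective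
  rcases h with h | ⟨h1, h2, h3, h4⟩
  · have h1 : PS 9 H := h.of_equiv e'.symm
    exact ⟨h1.mono (m := 10) (by norm_num), Or.inl h1⟩
  · refine ⟨h1.of_equiv e'.symm, Or.inr ⟨?_, ?_, ?_⟩⟩
    · exact Group.isSolvable_of_isSolvable_injective (f := e'.toMonoidHom) e'.injective
    · exact e.isSimpleGroup
    · rw [← h4]
      exact Nat.card_congr e.toEquiv

theorem coatom_map (e : G ≃* G') {H : Subgroup G} (hH : IsCoatom H) : IsCoatom (H.map e.toMonoidHom) :=
  (OrderIso.isCoatom_iff e.mapSubgroup H).2 hH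

end transfer

/-- S5881 from its version in `Type` -/
theorem s5881_of (h : Thm81) {G : Type*} [Group G] [Finite G]
    (S : Subgroup G) [hN : S.Normal] (hS : IsSimpleGroup S) (hSc : ¬ IsMulCommutative S)
    (hC : Subgroup.centralizer (S : Set G) = ⊥) (H : Subgroup G) (hH : IsCoatom H) :
    derivedSeries H 11 = derivedSeries H 10 ∧
      (derivedSeries H 10 = derivedSeries H 9 ∨ (Group.IsSolvable H ∧ Cfsg.IsFi23 G)) := by
  obtain ⟨G', _, ⟨e₀⟩⟩ := Cfsg.Agent.Lib.MinNormal.exists_type_zero_model G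
  let e := e₀.symm
  have : Finite G' := Finite.of_equiv G e.toEquiv
  let e' : S ≃* S.map e.toMonoidHom := S.equivMapOfInjective e.toMonoidHom e.injective
  refine concl_of e H (h G' (S.map e.toMonoidHom) (hN.map _ e.surjective) e'.symm.isSimpleGroup ?_ ?_ _ (coatom_map e hH))
  · intro h1
    apply hSc
    refine ⟨⟨fun x y => e'.injective ?_⟩⟩
    rw [map_mul, map_mul]
    exact h1.is_comm.comm _ _
  · rw [eq_bot_iff]
    intro x hx
    obtain ⟨y, rfl⟩ := e.surjective x
    have h1 : y ∈ Subgroup.centralizer (S : Set G) := by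
      rw [Subgroup.mem_centralizer_iff]
      intro s hs
      apply e.injective
      rw [map_mul, map_mul]
      exact Subgroup.mem_centralizer_iff.1 hx _ ⟨s, hs, rfl⟩
    rw [hC, Subgroup.mem_bot] at h1
    rw [h1, map_one]
    exact Subgroup.one_mem _

/-- S5882 from its version in `Type` -/
theorem s5882_of (h : Thm82) {G : Type*} [Group G] [Finite G]
    (hperf : commutator G = ⊤) (H : Subgroup G) (hH : IsCoatom H) (hcore : H.normalCore = ⊥) :
    derivedSeries H 11 = derivedSeries H 10 ∧
      (derivedSeries H 10 = derivedSeries H 9 ∨ (Group.IsSolvable H ∧ Cfsg.IsFi23 G)) := by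
  obtain ⟨G', _, ⟨e₀⟩⟩ := Cfsg.Agent.Lib.MinNormal.exists_type_zero_model G
  let e := e₀.symm
  have : Finite G' := Finite.of_equiv G e.toEquiv
  refine concl_of e H (h G' ?_ _ (coatom_map e hH) ?_)
  · rw [← derivedSeries_one, ← map_derivedSeries_of_surj (f := e.toMonoidHom) e.surjective, derivedSeries_one, hperf]
    exact Subgroup.map_top_of_surjective _ e.surjective
  · rw [eq_bot_iff]
    intro x hx
    obtain ⟨y, rfl⟩ := e.surjective x
    have h1 : y ∈ H.normalCore := by
      intro b
      obtain ⟨z, hz, hzb⟩ := hx (e b)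
      have h2 : z = b * y * b⁻¹ := e.injective (by rw [map_mul, map_mul, map_inv]; exact hzb)
      rwa [← h2]
    rw [hcore, Subgroup.mem_bot] at h1
    rw [h1, map_one]
    exact Subgroup.one_mem _

end Cfsg.Agent.DS.ONS
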